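import Groth.Agent.H29RR.Clifford
import Groth.Agent.H29Ref.HomSections
import Groth.Agent.H24Quot.Stalk
import Groth.Prelude.Def_KLin
import Groth.Agent.H10Coh.Proper2
import Mathlib.RingTheory.Flat.TorsionFree
import Mathlib.AlgebraicGeometry.FunctionField

/-! # Morphisms of coherent modules over a base ring: finiteness and torsion -/

set_option autoImplicit false
set_option backward.isDefEq.respectTransparency.types false
set_option linter.style.haveILetI false

universe u

open CategoryTheory CategoryTheory.Limits AlgebraicGeometry TopologicalSpace Opposite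

noncomputable section

namespace Groth.Agent.H10Coh.HomFibre

attribute [local instance 10000] H10Coh.hasSheafifyAb H10Coh.hasWeakSheafifyAb H10Coh.hasExtAb H10Coh.enoughInjAb

variable {R : Type u} [CommRing R] {X : Scheme.{u}} [X.Over (Spec (CommRingCat.of R))]

theorem sec_smul' (M : X.Modules) (c : R) (x : Coh.HH X M 0) :
    H29RR.sec M (c • x) = (H10Coh.globA (A := R) (X := X) c) • H29RR.sec M x := by
  show H10Coh.H0Equiv _ _ (H10Coh.HHEquiv M 0 (c • x)) = _
  rw [H10Coh.HHEquiv_smul']
  erw [H10Coh.compMk₀_apply, H10Coh.H0Equiv_map]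
  change @HSMul.hSMul (X.ringCatSheaf.obj.obj (op ⊤)) (M.val.obj (op ⊤)) (M.val.obj (op ⊤)) _
    (Coh.resTop X (op ⊤) (H10Coh.globA c)) _ = _
  simp only [Coh.resTop, Subsingleton.elim (homOfLE (le_top (a := (⊤ : X.Opens)))) (𝟙 _)]
  congr 1
  exact ConcreteCategory.congr_hom (X.presheaf.map_id (op ⊤)) _

/-- Morphisms of coherent modules on a proper scheme form a finite module. -/
theorem finite_hom [IsNoetherianRing R] [IsProper (X ↘ Spec (CommRingCat.of R))] {F G : X.Modules}
    (hF : Coh.IsCoh F) (hG : Coh.IsCoh G) : Module.Finite R (F ⟶ G) := by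
  haveI : IsLocallyNoetherian X := LocallyOfFiniteType.isLocallyNoetherian (X ↘ Spec (CommRingCat.of R))
  haveI : Module.Finite R (Coh.HH X (RefHull.homSh F G) 0) :=
    H10Coh.finite_HH_proper R X _ (H29Ref.isCoh_homSh F G hF hG) 0
  have hadd : ∀ (φ ψ : F ⟶ G), RefHull.ofHom (φ + ψ) ⊤ = RefHull.ofHom φ ⊤ + RefHull.ofHom ψ ⊤ := fun φ ψ =>
    Subtype.ext (funext fun y => LinearMap.ext fun v => by
      obtain ⟨U, hy, m, rfl⟩ := TopCat.Presheaf.exists_germ_eq F.presheaf v
      show RefHull.stalkMapₗ (φ + ψ) y.1 _ = RefHull.stalkMapₗ φ y.1 _ + RefHull.stalkMapₗ ψ y.1 _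
      rw [RefHull.stalkMapₗ_germ, RefHull.stalkMapₗ_germ, RefHull.stalkMapₗ_germ, ← map_add]
      rfl)
  let Φ : (F ⟶ G) →ₗ[R] Coh.HH X (RefHull.homSh F G) 0 :=
    { toFun := fun φ => (H29RR.sec _).symm (RefHull.ofHom φ ⊤)
      map_add' := fun φ ψ => by rw [hadd, map_add]
      map_smul' := fun c φ => (H29RR.sec _).injective (by
        rw [RingHom.id_apply, sec_smul', AddEquiv.apply_symm_apply, AddEquiv.apply_symm_apply]
        refine Subtype.ext (funext fun y => LinearMap.ext fun v => ?_)
        obtain ⟨U, hy, m, rfl⟩ := TopCat.Presheaf.exists_germ_eq F.presheaf v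
        show RefHull.stalkMapₗ (Formal.smulMod R F c ≫ φ) y.1 _ =
          X.presheaf.germ ⊤ y.1 trivial (H10Coh.globA (A := R) (X := X) c) • RefHull.stalkMapₗ φ y.1 _
        rw [RefHull.stalkMapₗ_germ, RefHull.stalkMapₗ_germ,
          ← TopCat.Presheaf.germ_res_apply X.presheaf (homOfLE (le_top : U ≤ ⊤)) y.1 hy, ← Mero.germ_smul]
        refine congrArg _ ?_
        show φ.app U ((Formal.smulModΓ F _).app U m) = _
        rw [KLin.smulModΓ_app_apply, Scheme.Modules.Hom.app_smul]
        rfl) }
  refine Module.Finite.of_injective Φ fun φ ψ h => ?_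
  have h' : RefHull.ofHom φ ⊤ = RefHull.ofHom ψ ⊤ := (H29RR.sec _).symm.injective h
  refine Scheme.Modules.hom_ext _ _ fun U => ?_
  ext m
  refine H29Ref.sec_ext G fun y hy => ?_
  rw [← RefHull.stalkMapₗ_germ φ y hy, ← RefHull.stalkMapₗ_germ ψ y hy]
  exact congrArg (fun t => t.1 ⟨y, trivial⟩ (F.presheaf.germ U y hy m)) h'

/-- A nonzero scalar of a domain is injective on a module flat over it. -/
theorem mono_smulMod_of_flat [IsDomain R] {F : X.Modules}
    (hfl : FlatMod.IsFlatOver (X ↘ Spec (CommRingCat.of R)) F) {a : R} (ha : a ≠ 0) :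
    Mono (Formal.smulMod R F a) := by
  let f := X ↘ Spec (CommRingCat.of R)
  refine H11Tilde.mono_of_injective _ fun U m hm x hx => ?_
  have hg : F.presheaf.germ U x hx m = 0 := by
    let τ := (Spec (CommRingCat.of R)).presheaf.germ ⊤ (f.base x) trivial ((Scheme.ΓSpecIso _).inv a)
    have hτ : τ ≠ 0 := fun h => ha ((ConcreteCategory.bijective_of_isIso (Scheme.ΓSpecIso (CommRingCat.of R)).inv).1
      ((germ_injective_of_isIntegral (Spec (CommRingCat.of R)) (U := ⊤) (f.base x) trivial
        (h.trans (map_zero _).symm)).trans (map_zero _).symm))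
    letI := FlatMod.moduleStalkOver f F x
    haveI : Module.Flat ((Spec (CommRingCat.of R)).presheaf.stalk (f.base x)) (F.presheaf.stalk x) := hfl x
    haveI : IsDomain ((Spec (CommRingCat.of R)).presheaf.stalk (f.base x)) := inferInstance
    refine Module.Flat.isSMulRegular_of_nonZeroDivisors (R := (Spec (CommRingCat.of R)).presheaf.stalk (f.base x))
      (M := F.presheaf.stalk x) (mem_nonZeroDivisors_of_ne_zero hτ) ?_
    show (f.stalkMap x).hom τ • F.presheaf.germ U x hx m = (f.stalkMap x).hom τ • (0 : F.presheaf.stalk x)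
    have hb : (f.stalkMap x).hom τ = H24Quot.base R x a :=
      Scheme.Hom.germ_stalkMap_apply f ⊤ x trivial _
    rw [smul_zero, hb]
    letI := H24Quot.stkModule R F x
    rw [← H24Quot.base_smul, ← H24Quot.stalkLin_smulMod, H06Mod.stalkLin_germ, hm, map_zero]
  obtain ⟨W, hxW, iWU, iWU', hW⟩ := TopCat.Presheaf.germ_eq F.presheaf x hx hx m 0 (hg.trans (map_zero _).symm)
  exact ⟨W, iWU.le, hxW, hW.trans (map_zero _)⟩

/-- Morphisms into a flat module have no torsion. -/
theorem isTorsionFree_hom [IsDomain R] {I F : X.Modules}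
    (hfl : FlatMod.IsFlatOver (X ↘ Spec (CommRingCat.of R)) F) : Module.IsTorsionFree R (I ⟶ F) := by
  refine Module.IsTorsionFree.of_smul_eq_zero fun c φ h => ?_
  by_cases hc : c = 0
  · exact Or.inl hc
  · haveI := mono_smulMod_of_flat hfl hc
    refine Or.inr ((cancel_mono (Formal.smulMod R F c)).1 ?_)
    rw [Limits.zero_comp, ← H24Formal.smulMod_comm φ c]
    exact h

end Groth.Agent.H10Coh.HomFibre
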