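import Groth.Agent.H10Coh.HomFibre.Basic
import Groth.Agent.H10Coh.Local
import Groth.Agent.H10Coh.QcqsPush
import Groth.Agent.H10Coh.QCohOps
import Groth.Agent.H10Coh.FinType2
import Groth.Agent.H24Quot.Scalars
import Groth.Agent.LeadFF.ProIso.Quot

/-! # Morphisms on the open locus where a scalar is invertible -/

set_option autoImplicit false
set_option backward.isDefEq.respectTransparency.types false
set_option linter.style.haveILetI false

universe u

open CategoryTheory CategoryTheory.Limits AlgebraicGeometry TopologicalSpace Opposite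
open Groth.Agent.LeadFF (scal glob)

noncomputable section

namespace Groth.Agent.H10Coh.HomFibre

variable {R : Type u} [CommRing R] {X : Scheme.{u}} [X.Over (Spec (CommRingCat.of R))]
  {U : Scheme.{u}} (j : U ⟶ X) [IsOpenImmersion j] (a : R)

theorem smulMod_pow_app (M : X.Modules) (n : ℕ) (W : X.Opens) (m : Γ(M, W)) :
    (Formal.smulMod R M (a ^ n)).app W m = scal (X ↘ Spec (CommRingCat.of R)) W a ^ n • m := by
  rw [LeadFF.smulMod_app, map_pow]

theorem res_eq_zero (M : X.Modules) {A B : X.Opens} (h : A = B) {W : X.Opens} (hA : A ≤ W) (hB : B ≤ W)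
    {m : Γ(M, W)} (hm : M.presheaf.map (homOfLE hA).op m = 0) : M.presheaf.map (homOfLE hB).op m = 0 := by
  subst h; exact hm

variable (hj : j.opensRange = X.basicOpen (glob (X ↘ Spec (CommRingCat.of R)) a))

include hj in
theorem image_preimage_eq (W : X.Opens) :
    j ''ᵁ (j ⁻¹ᵁ W) = X.basicOpen (scal (X ↘ Spec (CommRingCat.of R)) W a) := by
  rw [Scheme.Hom.image_preimage_eq_opensRange_inf, hj]
  show _ = X.basicOpen (X.presheaf.map _ (glob _ a))
  rw [Scheme.basicOpen_res, inf_comm]

include hj in
/-- A section killed on the locus is killed by a power of the scalar. -/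
theorem exists_pow_app_eq_zero (M : X.Modules) [M.IsQuasicoherent] {W : X.Opens} (hW : IsAffineOpen W)
    (m : Γ(M, W)) (hm : M.presheaf.map (homOfLE (j.image_preimage_le W)).op m = 0) :
    ∃ n : ℕ, (Formal.smulMod R M (a ^ n)).app W m = 0 := by
  obtain ⟨n, hn⟩ := H10Coh.exists_pow_smul_eq_zero_of_isCompact M hW.isCompact _ m
    (res_eq_zero M (image_preimage_eq j a hj W) _ _ hm)
  exact ⟨n, by rw [smulMod_pow_app]; exact hn⟩

include hj in
theorem mono_unit [IsDomain R] (ha : a ≠ 0) {F : X.Modules} [F.IsQuasicoherent]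
    (hfl : FlatMod.IsFlatOver (X ↘ Spec (CommRingCat.of R)) F) :
    Mono ((Scheme.Modules.restrictAdjunction j).unit.app F) := by
  refine H11Tilde.mono_of_injective _ fun W m hm x hx => ?_
  obtain ⟨V, hV, hxV, hle⟩ := exists_isAffineOpen_mem_and_subset (x := x) (U := W) hx
  have hVW : V ≤ W := hle
  refine ⟨V, hVW, hxV, ?_⟩
  have h1 : F.presheaf.map (homOfLE (j.image_preimage_le V)).op (F.presheaf.map (homOfLE hVW).op m) = 0 := by
    have h := congrArg (F.presheaf.map (homOfLE (j.image_mono (j.preimage_mono hVW))).op) hm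
    rw [Scheme.Modules.restrictAdjunction_unit_app_app] at h
    replace h := h.trans (map_zero _)
    erw [H10Coh.mres_mres] at h
    erw [H10Coh.mres_mres]
    exact h
  obtain ⟨n, hn⟩ := exists_pow_app_eq_zero j a hj F hV _ h1
  haveI := mono_smulMod_of_flat hfl (pow_ne_zero n ha)
  exact H10Coh.injective_app_of_mono' (Formal.smulMod R F (a ^ n)) V (hn.trans (map_zero _).symm)

theorem mres_bijective_eq (M : X.Modules) {A B : X.Opens} (h : A = B) (hle : A ≤ B) :
    Function.Bijective (M.presheaf.map (homOfLE hle).op) := by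
  subst h
  rw [show (homOfLE hle).op = 𝟙 _ from Subsingleton.elim _ _, CategoryTheory.Functor.map_id]
  exact Function.bijective_id

include hj in
/-- A morphism to the modules on the locus extends after multiplying by a power of the scalar. -/
theorem exists_lift [IsDomain R] (ha : a ≠ 0) [CompactSpace X] [IsLocallyNoetherian X] [QuasiCompact j] {I F : X.Modules} (hI : Coh.IsCoh I)
    [F.IsQuasicoherent] (hfl : FlatMod.IsFlatOver (X ↘ Spec (CommRingCat.of R)) F)
    (t : I ⟶ (Scheme.Modules.pushforward j).obj ((Scheme.Modules.restrictFunctor j).obj F)) :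
    ∃ (n : ℕ) (φ : I ⟶ F), φ ≫ (Scheme.Modules.restrictAdjunction j).unit.app F =
      Formal.smulMod R I (a ^ n) ≫ t := by
  let η : F ⟶ (Scheme.Modules.pushforward j).obj ((Scheme.Modules.restrictFunctor j).obj F) :=
    (Scheme.Modules.restrictAdjunction j).unit.app F
  haveI := mono_unit j a hj ha hfl
  haveI : ((Scheme.Modules.pullback j).obj F).IsQuasicoherent := H29Fitt.isQCoh_pullback j F ‹_›
  haveI : ((Scheme.Modules.restrictFunctor j).obj F).IsQuasicoherent :=
    H10Coh.isQuasicoherent_of_iso ((Scheme.Modules.restrictFunctorIsoPullback j).app F).symm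
  haveI := H10Coh.isQuasicoherent_pushforward j ((Scheme.Modules.restrictFunctor j).obj F)
  haveI : (cokernel η).IsQuasicoherent := H10Coh.isQuasicoherent_cokernel η
  let g := t ≫ cokernel.π η
  have hlow : ∀ W : X.Opens, IsAffineOpen W → ∀ m : Γ(I, W),
      ∃ n : ℕ, g.app W ((Formal.smulMod R I (a ^ n)).app W m) = 0 := by
    intro W hW m
    have h0 : (cokernel η).presheaf.map (homOfLE (j.image_preimage_le W)).op (g.app W m) = 0 := by
      rw [← H11Tilde.app_map_apply]
      show (cokernel.π η).app _ (t.app _ _) = 0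
      have hV : j ''ᵁ (j ⁻¹ᵁ (j ''ᵁ (j ⁻¹ᵁ W))) = j ''ᵁ (j ⁻¹ᵁ W) := by rw [Scheme.Hom.preimage_image_eq]
      obtain ⟨s, hs⟩ := (mres_bijective_eq F hV (j.image_preimage_le _)).2
        (t.app _ (I.presheaf.map (homOfLE (j.image_preimage_le W)).op m))
      have hs' : η.app _ s = t.app _ (I.presheaf.map (homOfLE (j.image_preimage_le W)).op m) := by
        rw [Scheme.Modules.restrictAdjunction_unit_app_app]; exact hs
      rw [← hs']
      exact (congr($(congrArg (fun k => Scheme.Modules.Hom.app k (j ''ᵁ (j ⁻¹ᵁ W))) (cokernel.condition η)) s))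
    obtain ⟨n, hn⟩ := exists_pow_app_eq_zero j a hj (cokernel η) hW (g.app W m) h0
    refine ⟨n, ?_⟩
    rw [smulMod_pow_app, Scheme.Modules.Hom.app_smul, ← smulMod_pow_app]
    exact hn
  obtain ⟨r, W, hW, -, hcov⟩ := H10Coh.exists_finite_affine_cover (X := X) (W := ⊤) (by simpa using isCompact_univ)
  haveI := fun i => ((H10Coh.isCoh_iff_finite_sections I).1 hI).2 (W i) (hW i)
  choose l e he using fun i => Module.Finite.exists_fin (R := Γ(X, W i)) (M := Γ(I, W i))
  choose N hN using fun (i : Fin r) (p : Fin (l i)) => hlow (W i) (hW i) (e i p)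
  let M := Finset.univ.sup fun i => Finset.univ.sup (N i)
  refine ⟨M, ?_⟩
  have hzero : (Formal.smulMod R I (a ^ M) ≫ t) ≫ cokernel.π η = 0 := by
    refine LeadFF.hom_ext_sections _ _ fun V m => ?_
    refine H29Ref.sec_ext (cokernel η) fun y hy => ?_
    obtain ⟨i, hi⟩ := Opens.mem_iSup.1 (hcov (trivial : y ∈ (⊤ : X.Opens)))
    have hspan : Submodule.span (X.presheaf.stalk y) (Set.range fun p => I.presheaf.germ (W i) y hi (e i p)) = ⊤ :=
      H29Ref.span_germ_affine I hI.1 (hW i) (e i) (he i) ⟨y, hi⟩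
    rw [← H06Mod.stalkLin_germ]
    have hall : ∀ z, H06Mod.stalkLin ((Formal.smulMod R I (a ^ M) ≫ t) ≫ cokernel.π η) y z = 0 := by
      intro z
      obtain ⟨c, rfl⟩ := (Submodule.mem_span_range_iff_exists_fun _).1 (hspan.ge (Submodule.mem_top (x := z)))
      rw [map_sum]
      refine Finset.sum_eq_zero fun p _ => ?_
      rw [map_smul, H06Mod.stalkLin_germ]
      have hle : N i p ≤ M :=
        (Finset.le_sup (f := N i) (Finset.mem_univ p)).trans (Finset.le_sup (f := fun i => Finset.univ.sup (N i)) (Finset.mem_univ i))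
      have h0 : g.app (W i) ((Formal.smulMod R I (a ^ M)).app (W i) (e i p)) = 0 := by
        have h1 := hN i p
        rw [smulMod_pow_app] at h1
        rw [smulMod_pow_app, ← Nat.sub_add_cancel hle, pow_add, mul_smul, Scheme.Modules.Hom.app_smul, h1,
          smul_zero]
      rw [show ((Formal.smulMod R I (a ^ M) ≫ t) ≫ cokernel.π η).app (W i) (e i p) = 0 from h0, map_zero,
        smul_zero]
    exact (hall _).trans (map_zero _).symm
  have hex : (ShortComplex.mk η (cokernel.π η) (cokernel.condition η)).Exact :=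
    ShortComplex.exact_of_g_is_cokernel _ (cokernelIsCokernel η)
  haveI : Mono (ShortComplex.mk η (cokernel.π η) (cokernel.condition η)).f := ‹Mono η›
  exact ⟨hex.lift _ hzero, hex.lift_f _ hzero⟩

end Groth.Agent.H10Coh.HomFibre
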