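import Groth.Agent.H10Coh.HomFibre.Generic
import Groth.Agent.LeadProper.PushRpush
import Groth.Agent.LeadProper.Supp
import Groth.Agent.H24Formal.ModPow

/-! # Morphisms on the two fibres over a discrete valuation ring -/

set_option autoImplicit false
set_option backward.isDefEq.respectTransparency.types false
set_option linter.style.haveILetI false

universe u

open CategoryTheory CategoryTheory.Limits AlgebraicGeometry TopologicalSpace Opposite
open Groth.Agent.LeadFF (scal glob)

noncomputable section

namespace Groth.Agent.H10Coh.HomFibre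

/-- The rank of a free module seen through a map to a vector space over its fractions. -/
theorem finrank_eq_of_frac {R K H W : Type*} [CommRing R] [Field K] (μ : R →+* K)
    (hfrac : ∀ c : K, ∃ a w : R, μ a ≠ 0 ∧ μ a * c = μ w)
    [AddCommGroup H] [Module R H] [AddCommGroup W] [Module K W] {d : ℕ} (b : Module.Basis (Fin d) R H)
    (Φ : H →ₛₗ[μ] W) (hΦ : Function.Injective Φ)
    (hsurj : ∀ w : W, ∃ (r : R) (h : H), μ r ≠ 0 ∧ μ r • w = Φ h) :
    Module.finrank K W = d := by
  classical
  have hind : LinearIndependent K (fun i => Φ (b i)) := by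
    rw [Fintype.linearIndependent_iff]
    intro c hc
    choose a w ha hw using fun i => hfrac (c i)
    let e : Fin d → R := fun i => (∏ j ∈ Finset.univ.erase i, a j) * w i
    have hA : ∀ i, μ (∏ j, a j) * c i = μ (e i) := fun i => by
      rw [← Finset.prod_erase_mul _ _ (Finset.mem_univ i), map_mul, mul_assoc, hw i, ← map_mul]
    have h0 : Φ (∑ i, e i • b i) = 0 := by
      rw [map_sum]
      simp only [LinearMap.map_smulₛₗ, ← hA, mul_smul]
      rw [← Finset.smul_sum, hc, smul_zero]
    have h1 : ∀ i, e i = 0 := Fintype.linearIndependent_iff.1 b.linearIndependent e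
      (hΦ (h0.trans (map_zero Φ).symm))
    intro i
    have hA0 : μ (∏ j, a j) ≠ 0 := by
      rw [map_prod]
      exact Finset.prod_ne_zero_iff.2 fun j _ => ha j
    have h2 := hA i
    rw [h1 i, map_zero] at h2
    exact (mul_eq_zero.1 h2).resolve_left hA0
  have hspan : ⊤ ≤ Submodule.span K (Set.range fun i => Φ (b i)) := by
    intro w _
    obtain ⟨r, h, hr, hw⟩ := hsurj w
    have hmem : Φ h ∈ Submodule.span K (Set.range fun i => Φ (b i)) := by
      rw [← b.sum_repr h, map_sum]
      simp only [LinearMap.map_smulₛₗ]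
      exact Submodule.sum_mem _ fun i _ => Submodule.smul_mem _ _ (Submodule.subset_span ⟨i, rfl⟩)
    rw [← inv_smul_smul₀ hr w, hw]
    exact Submodule.smul_mem _ _ hmem
  rw [Module.finrank_eq_card_basis (Module.Basis.mk hind hspan), Fintype.card_fin]

variable {R : Type u} [CommRing R] {X : Scheme.{u}} [X.Over (Spec (CommRingCat.of R))]
  {U : Scheme.{u}} (j : U ⟶ X) {K : Type u} [Field K] [U.Over (Spec (CommRingCat.of K))] (μ : R →+* K)
  (w : j ≫ (X ↘ Spec (CommRingCat.of R)) = (U ↘ Spec (CommRingCat.of K)) ≫ Spec.map (CommRingCat.ofHom μ))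

/-- Restriction of morphisms, semilinearly. -/
def pullHom (I F : X.Modules) :
    (I ⟶ F) →ₛₗ[μ] ((Scheme.Modules.pullback j).obj I ⟶ (Scheme.Modules.pullback j).obj F) where
  toFun φ := (Scheme.Modules.pullback j).map φ
  map_add' φ ψ := by
    haveI : (Scheme.Modules.pullback j).Additive :=
      (Scheme.Modules.pullbackPushforwardAdjunction j).left_adjoint_additive
    exact Functor.map_add _
  map_smul' c φ := by
    show (Scheme.Modules.pullback j).map (Formal.smulMod R I c ≫ φ) = _
    rw [Functor.map_comp, H24Quot.pullback_map_smulMod j μ w I c]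
    rfl

theorem pullHom_apply {I F : X.Modules} (φ : I ⟶ F) : pullHom j μ w I F φ = (Scheme.Modules.pullback j).map φ := rfl

include w in
set_option maxHeartbeats 1000000 in
/-- The generic fibre. -/
theorem finrank_pullback_open [IsDomain R] [CompactSpace X] [IsLocallyNoetherian X] [IsOpenImmersion j]
    [QuasiCompact j] (hfrac : ∀ c : K, ∃ a w : R, μ a ≠ 0 ∧ μ a * c = μ w) (hμ : Function.Injective μ)
    {a : R} (ha : a ≠ 0) (hj : j.opensRange = X.basicOpen (glob (X ↘ Spec (CommRingCat.of R)) a))
    {I F : X.Modules} (hI : Coh.IsCoh I) (hF : F.IsQuasicoherent)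
    (hfl : FlatMod.IsFlatOver (X ↘ Spec (CommRingCat.of R)) F) {d : ℕ} (b : Module.Basis (Fin d) R (I ⟶ F)) :
    Module.finrank K ((Scheme.Modules.pullback j).obj I ⟶ (Scheme.Modules.pullback j).obj F) = d ∧
      Function.Injective (pullHom j μ w I F) := by
  let adj := Scheme.Modules.pullbackPushforwardAdjunction j
  let radj := Scheme.Modules.restrictAdjunction j
  let θ := Scheme.Modules.restrictFunctorIsoPullback j
  have hu : adj.unit.app F = radj.unit.app F ≫ (Scheme.Modules.pushforward j).map (θ.hom.app F) :=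
    (Adjunction.unit_leftAdjointUniq_hom_app radj adj F).symm
  haveI := mono_unit j a hj ha hfl
  haveI : Mono (adj.unit.app F) := hu ▸ inferInstance
  have hinj : Function.Injective (pullHom j μ w I F) := fun φ ψ h => by
    rw [← cancel_mono (adj.unit.app F)]
    have e1 := adj.unit.naturality φ
    have e2 := adj.unit.naturality ψ
    refine e1.trans (Eq.trans ?_ e2.symm)
    exact congrArg (fun z => adj.unit.app I ≫ (Scheme.Modules.pushforward j).map z) h
  refine ⟨finrank_eq_of_frac μ hfrac b (pullHom j μ w I F) hinj fun ψ => ?_, hinj⟩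
  obtain ⟨n, φ, hφ⟩ := exists_lift j a hj ha hI hfl
    (adj.homEquiv _ _ ψ ≫ (Scheme.Modules.pushforward j).map (θ.inv.app F))
  refine ⟨a ^ n, φ, (map_ne_zero_iff μ hμ).2 (pow_ne_zero n ha), (adj.homEquiv _ _).injective ?_⟩
  have h1 : φ ≫ adj.unit.app F = Formal.smulMod R I (a ^ n) ≫ adj.homEquiv _ _ ψ := by
    rw [hu, ← Category.assoc]
    erw [hφ]
    rw [Category.assoc, Category.assoc, ← Functor.map_comp, θ.inv_hom_id_app, CategoryTheory.Functor.map_id,
      Category.comp_id]
  show adj.homEquiv _ _ (Formal.smulMod K ((Scheme.Modules.pullback j).obj I) (μ (a ^ n)) ≫ ψ) =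
    adj.homEquiv _ _ ((Scheme.Modules.pullback j).map φ)
  rw [← H24Quot.pullback_map_smulMod j μ w I (a ^ n), adj.homEquiv_naturality_left, ← h1,
    Adjunction.homEquiv_unit]
  exact adj.unit.naturality φ

set_option maxHeartbeats 1000000 in
/-- The closed fibre: a morphism vanishing there is a multiple of the scalar. -/
theorem exists_eq_smul_of_pullback_eq_zero {j : U ⟶ X} [IsClosedImmersion j] [IsLocallyNoetherian X] {a : R}
    (hker : ∀ V : X.affineOpens, j.ker.ideal V ≤ Ideal.span {scal (X ↘ Spec (CommRingCat.of R)) V.1 a})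
    {I F : X.Modules} (hF : F.IsQuasicoherent) [Mono (Formal.smulMod R F a)] {φ : I ⟶ F}
    (h : (Scheme.Modules.pullback j).map φ = 0) : ∃ ψ : I ⟶ F, φ = a • ψ := by
  let σ := Formal.smulMod R F a
  haveI := H10Coh.isQuasicoherent_cokernel σ
  have hzero : Formal.smulMod R (cokernel σ) a = 0 := by
    rw [← cancel_epi (cokernel.π σ), Limits.comp_zero, ← H24Formal.smulMod_comm (cokernel.π σ) a]
    exact cokernel.condition σ
  have hk : ClSub.KilledByIdeal j.ker (cokernel σ) := by
    intro V b hb (m : Γ(cokernel σ, V.1))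
    obtain ⟨c, rfl⟩ := Ideal.mem_span_singleton'.1 (hker V hb)
    change (c * scal (X ↘ Spec (CommRingCat.of R)) V.1 a) • (m : Γ(cokernel σ, V.1)) = 0
    rw [mul_smul]
    have h1 : scal (X ↘ Spec (CommRingCat.of R)) V.1 a • m = 0 := by
      rw [← LeadFF.smulMod_app, hzero]
      rfl
    exact (congrArg (c • ·) h1).trans (smul_zero c)
  haveI := LeadProper.isIso_unit_of_killedByIdeal (cokernel σ) ‹_› j hk
  let adj := Scheme.Modules.pullbackPushforwardAdjunction j
  have h2 : φ ≫ cokernel.π σ = 0 := by
    rw [← cancel_mono (adj.unit.app (cokernel σ)), Limits.zero_comp]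
    refine (adj.unit.naturality (φ ≫ cokernel.π σ)).trans ?_
    show adj.unit.app I ≫ (Scheme.Modules.pushforward j).map ((Scheme.Modules.pullback j).map (φ ≫ cokernel.π σ)) = 0
    rw [Functor.map_comp, h, Limits.zero_comp]
    haveI : (Scheme.Modules.pushforward j).Additive :=
      (Scheme.Modules.pullbackPushforwardAdjunction j).right_adjoint_additive
    rw [Functor.map_zero, Limits.comp_zero]
  have hex : (ShortComplex.mk σ (cokernel.π σ) (cokernel.condition σ)).Exact :=
    ShortComplex.exact_of_g_is_cokernel _ (cokernelIsCokernel σ)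
  haveI : Mono (ShortComplex.mk σ (cokernel.π σ) (cokernel.condition σ)).f := ‹Mono σ›
  refine ⟨hex.lift φ h2, (hex.lift_f φ h2).symm.trans ?_⟩
  exact H24Formal.smulMod_comm (hex.lift φ h2) a |>.symm

end Groth.Agent.H10Coh.HomFibre
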